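import Mathlib
import Cfsg.Agent.H22.Th.ThT2.Data

/-!
A checked coset table (generated data).
-/

set_option autoImplicit false
set_option maxRecDepth 100000
set_option linter.all false
set_option Elab.async false

namespace H22Th

open H93
namespace ThT2

open Coset

noncomputable section

theorem edge0_0 : data.edgesFast 0 0 1344 = true := by decide +kernel

theorem edge0_1 : data.edgesFast 0 1344 1344 = true := by decide +kernel

theorem edge0_2 : data.edgesFast 0 2688 1344 = true := by decide +kernel

theorem edge0_3 : data.edgesFast 0 4032 1344 = true := by decide +kernel

theorem edge0_4 : data.edgesFast 0 5376 1344 = true := by decide +kernel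

theorem edge0_5 : data.edgesFast 0 6720 1344 = true := by decide +kernel

theorem edge0_6 : data.edgesFast 0 8064 1344 = true := by decide +kernel

theorem edge0_7 : data.edgesFast 0 9408 1344 = true := by decide +kernel

theorem edge0_8 : data.edgesFast 0 10752 1344 = true := by decide +kernel

theorem edge0_9 : data.edgesFast 0 12096 1344 = true := by decide +kernel

theorem edge0_10 : data.edgesFast 0 13440 1344 = true := by decide +kernel

theorem edge0_11 : data.edgesFast 0 14784 1344 = true := by decide +kernel

theorem edge0_12 : data.edgesFast 0 16128 1344 = true := by decide +kernel

theorem edge1_0 : data.edgesFast 1 0 1344 = true := by decide +kernel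

theorem edge1_1 : data.edgesFast 1 1344 1344 = true := by decide +kernel

theorem edge1_2 : data.edgesFast 1 2688 1344 = true := by decide +kernel

theorem edge1_3 : data.edgesFast 1 4032 1344 = true := by decide +kernel

theorem edge1_4 : data.edgesFast 1 5376 1344 = true := by decide +kernel

theorem edge1_5 : data.edgesFast 1 6720 1344 = true := by decide +kernel

theorem edge1_6 : data.edgesFast 1 8064 1344 = true := by decide +kernel

theorem edge1_7 : data.edgesFast 1 9408 1344 = true := by decide +kernel

theorem edge1_8 : data.edgesFast 1 10752 1344 = true := by decide +kernel

theorem edge1_9 : data.edgesFast 1 12096 1344 = true := by decide +kernel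

theorem edge1_10 : data.edgesFast 1 13440 1344 = true := by decide +kernel

theorem edge1_11 : data.edgesFast 1 14784 1344 = true := by decide +kernel

theorem edge1_12 : data.edgesFast 1 16128 1344 = true := by decide +kernel

theorem edge2_0 : data.edgesFast 2 0 1344 = true := by decide +kernel

theorem edge2_1 : data.edgesFast 2 1344 1344 = true := by decide +kernel

theorem edge2_2 : data.edgesFast 2 2688 1344 = true := by decide +kernel

theorem edge2_3 : data.edgesFast 2 4032 1344 = true := by decide +kernel

theorem edge2_4 : data.edgesFast 2 5376 1344 = true := by decide +kernel

theorem edge2_5 : data.edgesFast 2 6720 1344 = true := by decide +kernel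

theorem edge2_6 : data.edgesFast 2 8064 1344 = true := by decide +kernel

theorem edge2_7 : data.edgesFast 2 9408 1344 = true := by decide +kernel

theorem edge2_8 : data.edgesFast 2 10752 1344 = true := by decide +kernel

theorem edge2_9 : data.edgesFast 2 12096 1344 = true := by decide +kernel

theorem edge2_10 : data.edgesFast 2 13440 1344 = true := by decide +kernel

theorem edge2_11 : data.edgesFast 2 14784 1344 = true := by decide +kernel

theorem edge2_12 : data.edgesFast 2 16128 1344 = true := by decide +kernel

theorem edge3_0 : data.edgesFast 3 0 1344 = true := by decide +kernel

theorem edge3_1 : data.edgesFast 3 1344 1344 = true := by decide +kernel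

theorem edge3_2 : data.edgesFast 3 2688 1344 = true := by decide +kernel

theorem edge3_3 : data.edgesFast 3 4032 1344 = true := by decide +kernel

theorem edge3_4 : data.edgesFast 3 5376 1344 = true := by decide +kernel

theorem edge3_5 : data.edgesFast 3 6720 1344 = true := by decide +kernel

theorem edge3_6 : data.edgesFast 3 8064 1344 = true := by decide +kernel

theorem edge3_7 : data.edgesFast 3 9408 1344 = true := by decide +kernel

theorem edge3_8 : data.edgesFast 3 10752 1344 = true := by decide +kernel

theorem edge3_9 : data.edgesFast 3 12096 1344 = true := by decide +kernel

theorem edge3_10 : data.edgesFast 3 13440 1344 = true := by decide +kernel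

theorem edge3_11 : data.edgesFast 3 14784 1344 = true := by decide +kernel

theorem edge3_12 : data.edgesFast 3 16128 1344 = true := by decide +kernel

theorem edge4_0 : data.edgesFast 4 0 1344 = true := by decide +kernel

theorem edge4_1 : data.edgesFast 4 1344 1344 = true := by decide +kernel

theorem edge4_2 : data.edgesFast 4 2688 1344 = true := by decide +kernel

theorem edge4_3 : data.edgesFast 4 4032 1344 = true := by decide +kernel

theorem edge4_4 : data.edgesFast 4 5376 1344 = true := by decide +kernel

theorem edge4_5 : data.edgesFast 4 6720 1344 = true := by decide +kernel

theorem edge4_6 : data.edgesFast 4 8064 1344 = true := by decide +kernel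

theorem edge4_7 : data.edgesFast 4 9408 1344 = true := by decide +kernel

theorem edge4_8 : data.edgesFast 4 10752 1344 = true := by decide +kernel

theorem edge4_9 : data.edgesFast 4 12096 1344 = true := by decide +kernel

theorem edge4_10 : data.edgesFast 4 13440 1344 = true := by decide +kernel

theorem edge4_11 : data.edgesFast 4 14784 1344 = true := by decide +kernel

theorem edge4_12 : data.edgesFast 4 16128 1344 = true := by decide +kernel

theorem edge5_0 : data.edgesFast 5 0 1344 = true := by decide +kernel

theorem edge5_1 : data.edgesFast 5 1344 1344 = true := by decide +kernel

theorem edge5_2 : data.edgesFast 5 2688 1344 = true := by decide +kernel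

theorem edge5_3 : data.edgesFast 5 4032 1344 = true := by decide +kernel

theorem edge5_4 : data.edgesFast 5 5376 1344 = true := by decide +kernel

end

end ThT2
end H22Th
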