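import Mathlib
import Cfsg.Agent.H22.Th.ThT2.Data

/-!
A checked coset table (generated data).
-/

set_option autoImplicit false
set_option maxRecDepth 100000
set_option linter.all false
set_option Elab.async false

namespace H22Th

open H93
namespace ThT2

open Coset

noncomputable section

theorem edge5_5 : data.edgesFast 5 6720 1344 = true := by decide +kernel

theorem edge5_6 : data.edgesFast 5 8064 1344 = true := by decide +kernel

theorem edge5_7 : data.edgesFast 5 9408 1344 = true := by decide +kernel

theorem edge5_8 : data.edgesFast 5 10752 1344 = true := by decide +kernel

theorem edge5_9 : data.edgesFast 5 12096 1344 = true := by decide +kernel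

theorem edge5_10 : data.edgesFast 5 13440 1344 = true := by decide +kernel

theorem edge5_11 : data.edgesFast 5 14784 1344 = true := by decide +kernel

theorem edge5_12 : data.edgesFast 5 16128 1344 = true := by decide +kernel

theorem treeRow_0 : treeOK data 0 5824 = true := by decide +kernel

theorem treeRow_1 : treeOK data 5824 5824 = true := by decide +kernel

theorem treeRow_2 : treeOK data 11648 5824 = true := by decide +kernel

end

end ThT2
end H22Th
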